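import Groth.Agent.Lib.LimStage.Fiber
import Groth.Agent.Lib.LimStage.Points
import Groth.Agent.Lib.CycFlat.Length
import Mathlib.RingTheory.HopkinsLevitzki
import Mathlib.AlgebraicGeometry.Noetherian

/-!
# Cycles on limits of schemes with affine transition maps
-/

set_option autoImplicit false
set_option backward.isDefEq.respectTransparency false
universe u

open CategoryTheory Limits AlgebraicGeometry IsLocalRing

namespace GrothLib.CycLimit

open GrothLib.CycFlat

variable {X Y : Scheme.{u}}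

/-- A prime of the stalk above the fibre ideal is a generization in the fibre. -/
theorem fromSpecStalk_eq (g : X ⟶ Y) (x : X) (p : Spec (X.presheaf.stalk x))
    (hp : (maximalIdeal (Y.presheaf.stalk (g x))).map (g.stalkMap x).hom ≤ p.asIdeal) :
    g (X.fromSpecStalk x p) = g x ∧ X.fromSpecStalk x p ⤳ x := by
  refine ⟨?_, ?_⟩
  · rw [← Scheme.Hom.comp_apply, ← Scheme.SpecMap_stalkMap_fromSpecStalk, Scheme.Hom.comp_apply]
    have : Spec.map (g.stalkMap x) p = closedPoint (Y.presheaf.stalk (g x)) := by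
      refine PrimeSpectrum.ext ((maximalIdeal.isMaximal _).eq_of_le ?_ (Ideal.map_le_iff_le_comap.1 hp)).symm
      exact (Spec.map (g.stalkMap x) p).isPrime.ne_top
    rw [this, Scheme.fromSpecStalk_closedPoint]
  · exact (Scheme.range_fromSpecStalk (x := x)).le ⟨p, rfl⟩

theorem maxFib_of_map_eq (g : X ⟶ Y) (x : X)
    (h : (maximalIdeal (Y.presheaf.stalk (g x))).map (g.stalkMap x).hom = maximalIdeal (X.presheaf.stalk x)) :
    MaxFib g x := by
  intro y hy hyx
  obtain ⟨p, rfl⟩ := (Scheme.range_fromSpecStalk (x := x)).ge hyx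
  have hle : (maximalIdeal (Y.presheaf.stalk (g x))).map (g.stalkMap x).hom ≤ p.asIdeal := by
    rw [Ideal.map_le_iff_le_comap]
    have h1 : Y.fromSpecStalk (g x) (Spec.map (g.stalkMap x) p) =
        Y.fromSpecStalk (g x) (closedPoint (Y.presheaf.stalk (g x))) := by
      rw [← Scheme.Hom.comp_apply, Scheme.SpecMap_stalkMap_fromSpecStalk, Scheme.Hom.comp_apply, hy,
        Scheme.fromSpecStalk_closedPoint]
    have h2 := (Y.fromSpecStalk (g x)).isEmbedding.injective h1
    exact (congrArg PrimeSpectrum.asIdeal h2).ge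
  have : p = closedPoint (X.presheaf.stalk x) :=
    PrimeSpectrum.ext ((maximalIdeal.isMaximal _).eq_of_le p.isPrime.ne_top (h ▸ hle)).symm
  rw [this, Scheme.fromSpecStalk_closedPoint]

theorem fibLength_toNat_ne_zero [IsLocallyNoetherian X] (g : X ⟶ Y) (x : X) (hx : MaxFib g x) :
    (fibLength g x).toNat ≠ 0 := by
  let R := X.presheaf.stalk x
  let J : Ideal R := (maximalIdeal (Y.presheaf.stalk (g x))).map (g.stalkMap x).hom
  have hJ : J ≤ maximalIdeal R := by
    rw [Ideal.map_le_iff_le_comap]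
    intro a ha
    exact map_nonunit (g.stalkMap x).hom a ha
  have hne : J ≠ ⊤ := ne_top_of_le_ne_top (maximalIdeal.isMaximal R).ne_top hJ
  haveI : Nontrivial (R ⧸ J) := Ideal.Quotient.nontrivial_iff.2 hne
  haveI : IsArtinianRing (R ⧸ J) := by
    rw [isArtinianRing_iff_krullDimLE_zero]
    refine Ring.krullDimLE_zero_iff.2 fun P hP => ?_
    let p : Spec (X.presheaf.stalk x) := ⟨P.comap (Ideal.Quotient.mk J), hP.comap _⟩
    have hp : J ≤ p.asIdeal := fun a ha => by
      show Ideal.Quotient.mk J a ∈ P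
      rw [Ideal.Quotient.eq_zero_iff_mem.2 ha]; exact zero_mem P
    obtain ⟨h1, h2⟩ := fromSpecStalk_eq g x p hp
    have h3 : p = closedPoint (X.presheaf.stalk x) :=
      (X.fromSpecStalk x).isEmbedding.injective
        ((hx _ h1 h2).trans Scheme.fromSpecStalk_closedPoint.symm)
    have h4 : (P.comap (Ideal.Quotient.mk J)).IsMaximal := by
      rw [show P.comap (Ideal.Quotient.mk J) = maximalIdeal R from congrArg PrimeSpectrum.asIdeal h3]
      exact maximalIdeal.isMaximal R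
    refine ⟨⟨hP.ne_top, fun Q hQ => ?_⟩⟩
    by_contra hQt
    have h5 := h4.eq_of_le (Ideal.comap_ne_top _ hQt) (Ideal.comap_mono hQ.le)
    exact hQ.ne (Ideal.comap_injective_of_surjective _ Ideal.Quotient.mk_surjective h5)
  have hfin : Module.length R (R ⧸ J) ≠ ⊤ := by
    rw [Module.length_eq_of_surjective (S := R) (R := R ⧸ J) Ideal.Quotient.mk_surjective]
    exact Module.length_ne_top
  have hpos : Module.length R (R ⧸ J) ≠ 0 := Module.length_pos.ne'
  exact fun h => (ENat.toNat_eq_zero.1 h).elim hpos hfin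

variable {I : Type u} [SmallCategory I] [IsCofiltered I] (D : I ⥤ Scheme.{u}) (c : Cone D)
  (hc : IsLimit c) [∀ (i j : I) (f : i ⟶ j), IsAffineHom (D.map f)]

include hc in
/-- Every germ on the limit comes from some stage. -/
theorem exists_stalkMap_eq (i₀ : I) (w : c.pt) (a : c.pt.presheaf.stalk w) :
    ∃ (j : I) (_ : j ⟶ i₀) (b : (D.obj j).presheaf.stalk (c.π.app j w)), (c.π.app j).stalkMap w b = a := by
  obtain ⟨U, hwU, s, rfl⟩ := c.pt.presheaf.exists_germ_eq (x := w) a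
  obtain ⟨_, ⟨i, V, hV, rfl⟩, hwV, hVU⟩ := TopologicalSpace.Opens.isBasis_iff_nbhd.1
    (isBasis_preimage_isAffineOpen D c hc) (U := U) hwU
  obtain ⟨k, fk₀, fk, -⟩ := IsCofilteredOrEmpty.cone_objs i₀ i
  let W : (D.obj k).Opens := D.map fk ⁻¹ᵁ V
  have hW : IsAffineOpen W := hV.preimage _
  have hπ : c.π.app k ⁻¹ᵁ W = c.π.app i ⁻¹ᵁ V := congr($(c.w fk) ⁻¹ᵁ V)
  have (j : Over k) : IsAffine ((opensDiagram D k W).obj j) := hW.preimage (D.map _)
  have hle : c.π.app k ⁻¹ᵁ W ≤ U := hπ.le.trans hVU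
  let s' : Γ(c.pt, c.π.app k ⁻¹ᵁ W) := c.pt.presheaf.map (homOfLE hle).op s
  obtain ⟨j, t, hj⟩ := exists_appTop_π_eq_of_isAffine_of_isLimit _ _
    (isLimitOpensCone D c hc k W) ((c.π.app k ⁻¹ᵁ W).topIso.inv s')
  obtain ⟨t, rfl⟩ := (D.map j.hom ⁻¹ᵁ W).topIso.symm.commRingCatIsoToRingEquiv.surjective t
  have h : c.π.app j.left ⁻¹ᵁ D.map j.hom ⁻¹ᵁ W = c.π.app k ⁻¹ᵁ W := congr($(c.w j.hom) ⁻¹ᵁ W)
  have key : s' = (c.π.app j.left).appLE (D.map j.hom ⁻¹ᵁ W) (c.π.app k ⁻¹ᵁ W) h.ge t := by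
    convert!
      show s' = ((Scheme.Opens.topIso _).inv ≫ ((opensCone D c k W).π.app j).appTop ≫ (Scheme.Opens.topIso _).hom) t from
        (c.π.app k ⁻¹ᵁ W).topIso.commRingCatIsoToRingEquiv.symm_apply_eq.mp hj.symm using 3
    simp [Scheme.Hom.app_eq_appLE, Scheme.Hom.resLE_appLE]
  have hw : w ∈ c.π.app k ⁻¹ᵁ W := hπ.ge hwV
  have hwj : c.π.app j.left w ∈ D.map j.hom ⁻¹ᵁ W := h.ge hw
  refine ⟨j.left, j.hom ≫ fk₀, (D.obj j.left).presheaf.germ _ _ hwj t, ?_⟩
  refine (Scheme.Hom.germ_stalkMap_apply _ _ _ hwj t).trans ?_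
  refine Eq.trans ?_ (c.pt.presheaf.germ_res_apply (homOfLE hle) w hw s)
  change _ = c.pt.presheaf.germ _ w hw s'
  rw [key]
  exact (c.pt.presheaf.germ_res_apply (homOfLE h.ge) w hw _).symm

theorem map_stalkMap_comp {Z : Scheme.{u}} (g : X ⟶ Y) (h : Y ⟶ Z) (x : X) (l : X ⟶ Z)
    (e : g ≫ h = l) :
    (maximalIdeal (Z.presheaf.stalk (l x))).map (l.stalkMap x).hom ≤
      (maximalIdeal (Y.presheaf.stalk (g x))).map (g.stalkMap x).hom := by
  subst e
  rw [Scheme.Hom.stalkMap_comp, CommRingCat.hom_comp, ← Ideal.map_map]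
  refine Ideal.map_mono ?_
  rw [Ideal.map_le_iff_le_comap]
  intro a ha
  exact map_nonunit (h.stalkMap (g x)).hom a ha

include hc in
theorem exists_map_eq_maximal [IsLocallyNoetherian c.pt] (i₀ : I) (w : c.pt) :
    ∃ (J : I) (_ : J ⟶ i₀), ∀ (j : I) (_ : j ⟶ J),
      (maximalIdeal ((D.obj j).presheaf.stalk (c.π.app j w))).map ((c.π.app j).stalkMap w).hom =
        maximalIdeal (c.pt.presheaf.stalk w) := by
  classical
  obtain ⟨s, hs⟩ := (IsNoetherian.noetherian (maximalIdeal (c.pt.presheaf.stalk w)) :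
    (maximalIdeal (c.pt.presheaf.stalk w)).FG)
  have key : ∀ t : Finset (c.pt.presheaf.stalk w), (∀ a ∈ t, a ∈ maximalIdeal _) →
      ∃ (J : I) (_ : J ⟶ i₀), ∀ (j : I) (_ : j ⟶ J), ∀ a ∈ t,
        a ∈ (maximalIdeal ((D.obj j).presheaf.stalk (c.π.app j w))).map ((c.π.app j).stalkMap w).hom := by
    intro t
    induction t using Finset.induction_on with
    | empty => exact fun _ => ⟨i₀, 𝟙 _, fun j _ a ha => absurd ha (Finset.notMem_empty a)⟩
    | insert a t _ ih =>
      intro ht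
      obtain ⟨J, fJ, hJ⟩ := ih fun b hb => ht b (Finset.mem_insert_of_mem hb)
      obtain ⟨k, fk, b, hb⟩ := exists_stalkMap_eq D c hc J w a
      refine ⟨k, fk ≫ fJ, fun j f x hx => ?_⟩
      rcases Finset.mem_insert.1 hx with rfl | hx
      · refine map_stalkMap_comp (c.π.app j) (D.map f) w (c.π.app k) (c.w f) ?_
        rw [← hb]
        refine Ideal.mem_map_of_mem _ ?_
        intro hu
        exact (ht _ (Finset.mem_insert_self _ _)) (hb ▸ hu.map _)
      · exact hJ j (f ≫ fk) x hx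
  obtain ⟨J, fJ, hJ⟩ := key s fun a ha => hs ▸ Ideal.subset_span ha
  refine ⟨J, fJ, fun j f => le_antisymm ?_ ?_⟩
  · rw [Ideal.map_le_iff_le_comap]
    intro a ha
    exact map_nonunit ((c.π.app j).stalkMap w).hom a ha
  · conv_lhs => rw [← hs]
    exact Ideal.span_le.2 (hJ j f)

theorem finite_maxFib [IsNoetherian X] (g : X ⟶ Y) (y : Y) : {z : X | g z = y ∧ MaxFib g z}.Finite := by
  have hN : TopologicalSpace.NoetherianSpace (g.fiber y) :=
    (g.fiberι y).isEmbedding.isInducing.noetherianSpace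
  have hfin : {w : g.fiber y | ∀ w', w' ⤳ w → w' = w}.Finite := by
    refine Set.Finite.of_finite_image (f := fun w => closure {w})
      (TopologicalSpace.NoetherianSpace.finite_irreducibleComponents.subset ?_) ?_
    · rintro _ ⟨w, hw, rfl⟩
      exact closure_mem_irreducibleComponents hw
    · intro a _ b hb e
      exact hb a ((specializes_iff_closure_subset).2 e.ge)
  refine (hfin.image (g.fiberι y)).subset ?_
  rintro z ⟨hz, hm⟩
  obtain ⟨w, rfl⟩ : z ∈ Set.range (g.fiberι y) := by rw [g.range_fiberι]; exact hz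
  exact ⟨w, (maxFib_fiberι_iff g y w).1 hm, rfl⟩

include hc in
/-- The points outside the image are outside the image at a finite stage. -/
theorem exists_avoid (i : I) (T : Set (D.obj i)) (hT : T.Finite)
    (h : ∀ y ∈ T, y ∉ Set.range (c.π.app i)) :
    ∃ (j : I) (f : j ⟶ i), ∀ y ∈ T, y ∉ Set.range (D.map f) := by
  induction T, hT using Set.Finite.induction_on with
  | empty => exact ⟨i, 𝟙 i, fun y hy => absurd hy id⟩
  | @insert y T _ _ ih =>
    obtain ⟨j, f, hj⟩ := ih fun z hz => h z (Set.mem_insert_of_mem _ hz)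
    have hy := h y (Set.mem_insert _ _)
    rw [GrothLib.LimStage.range_π_eq D c hc i] at hy
    simp only [Set.mem_iInter, not_forall] at hy
    obtain ⟨k, φ, hk⟩ := hy
    obtain ⟨l, g, g', e⟩ : ∃ (l : I) (g : l ⟶ j) (g' : l ⟶ k), g ≫ f = g' ≫ φ := by
      obtain ⟨l, g, g', -⟩ := IsCofilteredOrEmpty.cone_objs j k
      obtain ⟨m, e, he⟩ := IsCofilteredOrEmpty.cone_maps (g ≫ f) (g' ≫ φ)
      exact ⟨m, e ≫ g, e ≫ g', by rw [Category.assoc, Category.assoc, he]⟩
    refine ⟨l, g ≫ f, fun z hz => ?_⟩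
    rcases Set.mem_insert_iff.1 hz with rfl | hz
    · rw [e, Functor.map_comp, Scheme.Hom.comp_base, TopCat.coe_comp]
      exact fun ⟨t, ht⟩ => hk ⟨_, ht⟩
    · rw [Functor.map_comp, Scheme.Hom.comp_base, TopCat.coe_comp]
      exact fun ⟨t, ht⟩ => hj z hz ⟨_, ht⟩

theorem finite_support [CompactSpace X] (α : AlgebraicCycle X ℤ) : {x | α x ≠ 0}.Finite :=
  ((Function.locallyFinsupp.locallyFiniteSupport α).finite_inter_support_of_isCompact
    isCompact_univ).subset fun _ hx => ⟨trivial, hx⟩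

end GrothLib.CycLimit
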